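import Cfsg.Agent.H665.Psl2Char
import Cfsg.Agent.H690.Suz
import Cfsg.Agent.Blocks.Deflate

/-!
# `VZ` elements of `PSL₂(q)`

* `exists_irr_psl` : `PSL₂(q)`, `q ≥ 4`, `q ≠ 5`, has an irreducible character of degree `q + 1`;
* `exists_vz` : for `q ≥ 4`, `q ≠ 5`, there is a `VZ` element of prime order not dividing `q`.
-/

set_option autoImplicit false
set_option linter.unusedSectionVars false

namespace Cfsg.Agent.H690.LTwo

open Cfsg Cfsg.Agent.Characters.Core Matrix Cfsg.Agent.H665.Psl2Char Cfsg.Agent.H713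
open Cfsg.Agent.ClassicalGeometry.SL2Line (sl_mul_apply sl_one_apply mk mk_00 mk_01 mk_10 mk_11 sl_ext)
open scoped ComplexConjugate MatrixGroups

variable {F : Type*} [Field F] [Fintype F]

theorem exists_pow_four (h4 : 4 ≤ Fintype.card F) (h5 : Fintype.card F ≠ 5) : ∃ d : Fˣ, d ^ 4 ≠ 1 := by
  classical
  obtain ⟨g, hg⟩ := IsCyclic.exists_generator (α := Fˣ)
  refine ⟨g, fun h => ?_⟩
  have h1 := orderOf_dvd_of_pow_eq_one h
  rw [orderOf_eq_card_of_forall_mem_zpowers hg, Nat.card_eq_fintype_card, Fintype.card_units] at h1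
  have h2 := Nat.le_of_dvd (by norm_num) h1
  have h3 : Fintype.card F = 4 ∨ Fintype.card F = 5 := by omega
  rcases h3 with h3 | h3
  · rw [h3] at h1
    norm_num at h1
  · exact h5 h3

/-- The character of the Borel subgroup of `SL₂` used. -/
def lam (l : Fˣ →* ℂˣ) : borel F →* ℂˣ := (l * l).comp diag

theorem lam_apply (l : Fˣ →* ℂˣ) (g : borel F) : lam l g = l (diag g) * l (diag g) := rfl

theorem irr_lam [Fintype (SpecialLinearGroup (Fin 2) F)] (l : Fˣ →* ℂˣ) {d : Fˣ} (hl : l (d ^ 4) ≠ 1) :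
    IsIrrCharacter (SpecialLinearGroup (Fin 2) F) (indFun (borel F) (fun t => (lam l t : ℂ))) := by
  classical
  apply Cfsg.Agent.CharactersDeep.MackeyLinear.isIrrCharacter_indFun
  intro x hx
  have hc : x 1 0 ≠ 0 := hx
  -- the element of the Borel subgroup fixing the line of `x e₁`
  set y : F := (((d⁻¹ : Fˣ) : F) - (d : F)) * x 0 0 / x 1 0 with hy
  set t : SpecialLinearGroup (Fin 2) F := (upp d y : SpecialLinearGroup (Fin 2) F) with ht
  have htB : t ∈ borel F := (upp d y).2
  have hdet : x 0 0 * x 1 1 - x 0 1 * x 1 0 = 1 := by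
    have := x.det_coe
    rwa [Matrix.det_fin_two] at this
  obtain ⟨i00, i01, i10, i11⟩ := sl_inv_entries F x
  have t00 : t 0 0 = (d : F) := rfl
  have t01 : t 0 1 = y := rfl
  have t10 : t 1 0 = 0 := rfl
  have t11 : t 1 1 = ((d⁻¹ : Fˣ) : F) := rfl
  have hyc : y * x 1 0 = (((d⁻¹ : Fˣ) : F) - (d : F)) * x 0 0 := by
    rw [hy]; field_simp
  have hconj00 : (x⁻¹ * t * x) 0 0 = ((d⁻¹ : Fˣ) : F) := by
    rw [sl_mul_apply, sl_mul_apply, sl_mul_apply, i00, i01, t00, t01, t10, t11]
    linear_combination x 1 1 * hyc + ((d⁻¹ : Fˣ) : F) * hdet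
  have hconj10 : (x⁻¹ * t * x) 1 0 = 0 := by
    rw [sl_mul_apply, sl_mul_apply, sl_mul_apply, i10, i11, t00, t01, t10, t11]
    linear_combination (- x 1 0) * hyc
  refine ⟨⟨t, htB⟩, mem_borel.2 hconj10, ?_⟩
  intro heq
  have h1 : diag (⟨t, htB⟩ : borel F) = d := Units.ext rfl
  have h2 : diag (⟨x⁻¹ * t * x, mem_borel.2 hconj10⟩ : borel F) = d⁻¹ := Units.ext hconj00
  rw [lam_apply, lam_apply, h1, h2, map_inv] at heq
  apply hl
  have h3 : l (d ^ 4) = (l d * l d) * (l d * l d) := by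
    rw [map_pow, ← pow_two, ← pow_two, ← pow_mul]
  rw [h3]
  nth_rewrite 1 [heq]
  group

theorem ind_center [Fintype (SpecialLinearGroup (Fin 2) F)] (l : Fˣ →* ℂˣ) {z : SpecialLinearGroup (Fin 2) F}
    (hz : z ∈ Subgroup.center (SpecialLinearGroup (Fin 2) F)) :
    indFun (borel F) (fun t => (lam l t : ℂ)) z = indFun (borel F) (fun t => (lam l t : ℂ)) 1 := by
  classical
  have hzB : z ∈ borel F := by
    rcases Cfsg.Agent.ClassicalGeometry.PSL2Basic.mem_center_SL2_iff.1 hz with rfl | rfl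
    · exact one_mem _
    · rw [mem_borel]
      simp
  have hz1 : lam l ⟨z, hzB⟩ = 1 := by
    rw [lam_apply]
    have h1 : diag (⟨z, hzB⟩ : borel F) * diag (⟨z, hzB⟩ : borel F) = 1 := by
      rw [← map_mul]
      have h2 : (⟨z, hzB⟩ : borel F) * ⟨z, hzB⟩ = 1 := by
        apply Subtype.ext
        show z * z = 1
        rcases Cfsg.Agent.ClassicalGeometry.PSL2Basic.mem_center_SL2_iff.1 hz with rfl | rfl
        · simp
        · simp
      rw [h2, map_one]
    rw [← map_mul, h1, map_one]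
  unfold indFun
  congr 1
  refine Finset.sum_congr rfl fun x _ => ?_
  have h1 : x⁻¹ * z * x = z := by
    have h5 := Subgroup.mem_center_iff.1 hz x
    rw [mul_assoc, ← h5, ← mul_assoc, inv_mul_cancel, one_mul]
  have h2 : x⁻¹ * 1 * x = 1 := by group
  rw [h1, h2]
  have h3 : extendByZero (borel F) (fun t => (lam l t : ℂ)) ((⟨z, hzB⟩ : borel F) : SpecialLinearGroup (Fin 2) F) =
      (lam l ⟨z, hzB⟩ : ℂ) := Function.Injective.extend_apply Subtype.val_injective _ _ _
  have h4 : extendByZero (borel F) (fun t => (lam l t : ℂ)) ((1 : borel F) : SpecialLinearGroup (Fin 2) F) =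
      (lam l 1 : ℂ) := Function.Injective.extend_apply Subtype.val_injective _ _ _
  rw [hz1] at h3
  rw [map_one] at h4
  exact h3.trans h4.symm

/-- **`PSL₂(q)` has an irreducible character of degree `q + 1`**. -/
theorem exists_irr_psl (h4 : 4 ≤ Fintype.card F) (h5 : Fintype.card F ≠ 5) :
    ∃ χ : ProjectiveSpecialLinearGroup (Fin 2) F → ℂ, IsIrrCharacter (ProjectiveSpecialLinearGroup (Fin 2) F) χ ∧
      χ 1 = ((Fintype.card F + 1 : ℕ) : ℂ) := by
  classical
  have : Fintype (SpecialLinearGroup (Fin 2) F) := Fintype.ofFinite _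
  have : Fintype (Subgroup.center (SpecialLinearGroup (Fin 2) F)) := Fintype.ofFinite _
  obtain ⟨d, hd⟩ := exists_pow_four h4 h5
  obtain ⟨l, hl⟩ : ∃ l : Fˣ →* ℂˣ, l (d ^ 4) ≠ 1 :=
    CommGroup.exists_apply_ne_one_of_hasEnoughRootsOfUnity Fˣ ℂ hd
  have hirr := irr_lam l hl
  have h1 : indFun (borel F) (fun t => (lam l t : ℂ)) 1 = ((Fintype.card F + 1 : ℕ) : ℂ) := by
    rw [Cfsg.Agent.CharactersDeep.NormalInd.indFun_one, index_borel]
    simp
  obtain ⟨χ, hχ⟩ := Cfsg.Agent.Blocks.Deflate.exists_deflation (Subgroup.center (SpecialLinearGroup (Fin 2) F)) _ hirr (by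
    have h2 : ∀ n : Subgroup.center (SpecialLinearGroup (Fin 2) F),
        indFun (borel F) (fun t => (lam l t : ℂ)) n = ((Fintype.card F + 1 : ℕ) : ℂ) := by
      intro n
      rw [ind_center l n.2, h1]
    rw [Finset.sum_congr rfl fun n _ => h2 n, Finset.sum_const, Finset.card_univ, nsmul_eq_mul]
    refine mul_ne_zero ?_ ?_
    · exact Nat.cast_ne_zero.2 Fintype.card_ne_zero
    · exact Nat.cast_ne_zero.2 (Nat.succ_ne_zero _))
  refine ⟨χ, χ.2, ?_⟩
  rw [← h1, hχ]
  rfl

/-- **A `VZ` element of prime order not dividing `q`.** -/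
theorem exists_vz (h4 : 4 ≤ Fintype.card F) (h5 : Fintype.card F ≠ 5) :
    ∃ (l : ℕ) (x : ProjectiveSpecialLinearGroup (Fin 2) F), l.Prime ∧ ¬ l ∣ Fintype.card F ∧ orderOf x = l ∧ VZ _ x := by
  classical
  obtain ⟨χ, hχ, h1⟩ := exists_irr_psl h4 h5
  set q := Fintype.card F with hq
  -- the order
  have hcard : ∃ e : ℕ, Nat.card (ProjectiveSpecialLinearGroup (Fin 2) F) = e * (q + 1) ∧
      ∃ l : ℕ, l.Prime ∧ l ∣ q + 1 ∧ ¬ l ∣ e ∧ ¬ l ∣ q := by
    have hSL := Cfsg.Agent.ClassicalGeometry.PSL2Basic.card_SL2 (F := F)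
    rw [← hq] at hSL
    have hmul := Subgroup.card_eq_card_quotient_mul_card_subgroup (Subgroup.center (SpecialLinearGroup (Fin 2) F))
    have hsq : q * (q ^ 2 - 1) = q * (q - 1) * (q + 1) := by
      have : q ^ 2 - 1 = (q - 1) * (q + 1) := by
        obtain ⟨k, hk⟩ : ∃ k, q = k + 1 := ⟨q - 1, by omega⟩
        rw [hk]
        have : (k + 1) ^ 2 = k * (k + 2) + 1 := by ring
        rw [this, Nat.add_sub_cancel, Nat.add_sub_cancel]
      rw [this]; ring
    by_cases h2 : (2 : F) = 0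
    · have hc := Cfsg.Agent.ClassicalGeometry.PSL2Basic.card_center_SL2_even (F := F) h2
      rw [hc, mul_one, hSL, hsq] at hmul
      refine ⟨q * (q - 1), hmul.symm, ?_⟩
      have hev : Even q := by
        rw [← Nat.not_odd_iff_even, hq, ← Cfsg.Agent.ClassicalGeometry.PSL2Basic.two_ne_zero_iff_odd]
        exact not_not.2 h2
      obtain ⟨l, hl, hld⟩ := Nat.exists_prime_and_dvd (n := q + 1) (by omega)
      have hl2 : l ≠ 2 := by
        rintro rfl
        obtain ⟨k, hk⟩ := hev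
        omega
      have hlq : ¬ l ∣ q := by
        intro h
        have := (Nat.dvd_add_right h).1 hld
        exact hl.one_lt.ne' (Nat.dvd_one.1 this)
      refine ⟨l, hl, hld, ?_, hlq⟩
      intro h
      rcases hl.dvd_mul.1 h with h | h
      · exact hlq h
      · have h3 : l ∣ (q + 1) - (q - 1) := Nat.dvd_sub hld h
        have h6 : (q + 1) - (q - 1) = 2 := by omega
        rw [h6] at h3
        exact hl2 ((Nat.prime_dvd_prime_iff_eq hl Nat.prime_two).1 h3)
    · have hc := Cfsg.Agent.ClassicalGeometry.PSL2Basic.card_center_SL2_odd (F := F) h2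
      have hodd : Odd q := (Cfsg.Agent.ClassicalGeometry.PSL2Basic.two_ne_zero_iff_odd F).1 h2
      obtain ⟨k, hk⟩ := hodd
      rw [hc, hSL, hsq] at hmul
      have hmul' : Nat.card (ProjectiveSpecialLinearGroup (Fin 2) F) * 2 = q * (q - 1) * (q + 1) := hmul.symm
      have hq1 : q - 1 = 2 * k := by omega
      have hcd : Nat.card (ProjectiveSpecialLinearGroup (Fin 2) F) = q * k * (q + 1) := by
        have : Nat.card (ProjectiveSpecialLinearGroup (Fin 2) F) * 2 = (q * k * (q + 1)) * 2 := by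
          rw [hmul', hq1]; ring
        exact Nat.eq_of_mul_eq_mul_right (by norm_num) this
      refine ⟨q * k, hcd, ?_⟩
      by_cases hl : ∃ l : ℕ, l.Prime ∧ l ≠ 2 ∧ l ∣ q + 1
      · obtain ⟨l, hl, hl2, hld⟩ := hl
        have hlq : ¬ l ∣ q := by
          intro h
          have := (Nat.dvd_add_right h).1 hld
          exact hl.one_lt.ne' (Nat.dvd_one.1 this)
        refine ⟨l, hl, hld, ?_, hlq⟩
        intro h
        rcases hl.dvd_mul.1 h with h | h
        · exact hlq h
        · have h3 : l ∣ (q + 1) - 2 * k := Nat.dvd_sub hld (h.mul_left 2)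
          have h6 : (q + 1) - 2 * k = 2 := by omega
          rw [h6] at h3
          exact hl2 ((Nat.prime_dvd_prime_iff_eq hl Nat.prime_two).1 h3)
      · push Not at hl
        refine ⟨2, Nat.prime_two, by omega, ?_, by omega⟩
        -- `q + 1` is a power of two
        have hpow : ∃ j, q + 1 = 2 ^ j := by
          refine ⟨_, Nat.eq_prime_pow_of_unique_prime_dvd (by omega) ?_⟩
          intro p hp hpd
          by_contra hne
          exact hl p hp hne hpd
        obtain ⟨j, hj⟩ := hpow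
        have hj3 : 3 ≤ j := by
          by_contra hlt
          have : j = 0 ∨ j = 1 ∨ j = 2 := by omega
          rcases this with rfl | rfl | rfl <;> norm_num at hj <;> omega
        obtain ⟨i, rfl⟩ : ∃ i, j = i + 3 := ⟨j - 3, by omega⟩
        rw [pow_add] at hj
        intro h
        rcases Nat.prime_two.dvd_mul.1 h with h | h
        · omega
        · omega
  obtain ⟨e, he, l, hl, hld, hle, hlq⟩ := hcard
  have : Fact l.Prime := ⟨hl⟩
  obtain ⟨x, hx⟩ := exists_prime_orderOf_dvd_card' (G := ProjectiveSpecialLinearGroup (Fin 2) F) l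
    (by rw [he]; exact hld.mul_left e)
  refine ⟨l, x, hl, hlq, hx, ?_⟩
  have P : Sylow l (ProjectiveSpecialLinearGroup (Fin 2) F) := default
  refine Reduce.vz_of_degree hχ h1 P ?_ (by rw [hx])
  have h2 : Nat.card P ∣ Nat.card (ProjectiveSpecialLinearGroup (Fin 2) F) := Subgroup.card_subgroup_dvd_card _
  rw [he] at h2
  refine Nat.Coprime.dvd_of_dvd_mul_left ?_ h2
  obtain ⟨k, hk⟩ := (IsPGroup.iff_card).1 P.2
  rw [hk]
  exact Nat.Coprime.pow_left _ ((Nat.Prime.coprime_iff_not_dvd hl).2 hle)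

end Cfsg.Agent.H690.LTwo
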