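import Cfsg.Agent.H690.LieMix
import Cfsg.Agent.S1146
import Cfsg.Agent.S2366
import Cfsg.Agent.S1159
import Cfsg.Agent.S0282
import Cfsg.Agent.S0827
import Cfsg.Agent.FixBN.ReeSplit
import Cfsg.Agent.Mrg.Omega.ML.LieRow.Lie
import Cfsg.Prelude.Def_LieTypeChar

/-!
# Elements of order `2r` in the simple groups of Lie type of odd characteristic

* `hasSplit` : a simple group of Lie type in characteristic `p` has a split (B,N)-pair of characteristic `p`;
* `lie_odd` : a simple group of Lie type of odd characteristic has, for an odd prime `r` for which it has a split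
  (B,N)-pair, an element of order `2r`, or it is `PSL₂(q)`, or it is also of Lie type in characteristic two.
-/

set_option autoImplicit false

namespace Cfsg.Agent.H690.LieRow

open Cfsg Cfsg.Agent.FixBN

/-- A simple group of Lie type in characteristic `p` has a split (B,N)-pair of characteristic `p`. -/
theorem hasSplit {p : ℕ} (hp : p.Prime) {G : Type*} [Group G] [IsSimpleGroup G] (h : IsLieTypeChar p G) :
    HasSplit p G := by
  rcases Nodes.RGDLie.hasRGD_of_lie h with h1 | ⟨rfl, h1⟩ | ⟨rfl, h1⟩ | ⟨rfl, h1⟩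
  · exact Omega.ML.LieRow.hasSplit_of_rgd hp h1
  · exact Omega.ML.LieRow.SzSplit.hasSplit_of_isoSuzuki h1
  · exact Omega.ML.LieRow.hasSplit_of_lie h
  · exact FixBN.ReeSplit.hasSplit_of_isoRee h1

theorem two_mul_dvd {p q : ℕ} (hq : Odd q) : 2 * p ∣ p * (q + 1) / Nat.gcd 3 (q + 1) := by
  obtain ⟨k, hk⟩ := hq
  have h1 : q + 1 = 2 * (k + 1) := by omega
  have h2 : Nat.gcd 3 (q + 1) ∣ k + 1 := by
    have h3 : Nat.gcd 3 (q + 1) ∣ 2 * (k + 1) := by rw [← h1]; exact Nat.gcd_dvd_right _ _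
    have h4 : Nat.Coprime (Nat.gcd 3 (q + 1)) 2 :=
      Nat.Coprime.coprime_dvd_left (Nat.gcd_dvd_left _ _) (by norm_num)
    exact h4.dvd_of_dvd_mul_left h3
  obtain ⟨m, hm⟩ := h2
  have h0 : 0 < Nat.gcd 3 (q + 1) := Nat.gcd_pos_of_pos_left _ (by norm_num)
  refine ⟨m, ?_⟩
  apply Nat.div_eq_of_eq_mul_left h0
  generalize Nat.gcd 3 (q + 1) = d at hm
  rw [h1, hm]
  ring

/-- Groups of Lie type of odd characteristic. -/
theorem lie_odd {p : ℕ} (hp : p.Prime) (hp2 : p ≠ 2) {K : Type*} [Group K] [Finite K] [IsSimpleGroup K]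
    (h : IsLieTypeChar p K) :
    (∃ r : ℕ, r.Prime ∧ r ≠ 2 ∧ HasSplit r K ∧ ∃ g : K, orderOf g = 2 * r) ∨
      (∃ (F : Type) (_ : Field F) (_ : Fintype F), Nonempty (K ≃* Matrix.ProjectiveSpecialLinearGroup (Fin 2) F)) ∨
      IsLieTypeChar 2 K := by
  have : Fact p.Prime := ⟨hp⟩
  have hs := hasSplit hp h
  rcases LieMix.exists_order_or_rank hp2 hs with h1 | ⟨P, h1, h2⟩
  · exact Or.inl ⟨p, hp, hp2, hs, h1⟩
  · rcases Cfsg.Agent.S1146.result P h1 h2 with h3 | h3 | h3 | h3
    · exact Or.inr (Or.inl h3)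
    · obtain ⟨F, i1, i2, q, hF, ⟨e⟩⟩ := h3
      obtain ⟨r, hr⟩ := CharP.exists F
      have hrp : r.Prime := CharP.char_is_prime F r
      have : Fact r.Prime := ⟨hrp⟩
      have hnq : ¬ (3 = 3 ∧ q = 2) := by
        rintro ⟨-, rfl⟩
        have hF4 : Fintype.card F = 4 := by rw [hF]; norm_num
        have h4 := (Cfsg.Agent.S0282.result hF4).1
        obtain ⟨N, hN, hN9, -, -⟩ := Cfsg.Agent.S0827.result hF4
        have hs' : IsSimpleGroup (PSU 3 F 2) := e.symm.isSimpleGroup
        rcases hN.eq_bot_or_eq_top with h5 | h5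
        · rw [h5, Subgroup.card_bot] at hN9
          omega
        · rw [h5, Subgroup.card_top, h4] at hN9
          omega
      have hL : IsLieTypeChar r K := Or.inr (Or.inr (Or.inl ⟨F, i1, i2, hr, 3, q, hF, le_refl _, hnq, ⟨e⟩⟩))
      by_cases hr2 : r = 2
      · subst hr2
        exact Or.inr (Or.inr hL)
      · left
        have hs' := hasSplit hrp hL
        refine ⟨r, hrp, hr2, hs', ?_⟩
        have h4 := Cfsg.Agent.S2366.result r hr2 q hF
        have hq : Odd q := by
          obtain ⟨n, hn, hn2⟩ := FiniteField.card F r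
          have h5 : q ∣ r ^ (n : ℕ) := by rw [← hn2, hF]; exact dvd_pow_self q two_ne_zero
          obtain ⟨k, -, rfl⟩ := (Nat.dvd_prime_pow hrp).1 h5
          exact (hrp.odd_of_ne_two hr2).pow
        have h5 : 2 * r ∈ Set.range (orderOf : PSU 3 F q → ℕ) := by
          rw [h4]
          left; left; right
          exact two_mul_dvd hq
        obtain ⟨g, hg⟩ := h5
        exact ⟨e.symm g, by rw [MulEquiv.orderOf_eq]; exact hg⟩
    · exact Or.inr (Or.inr (Or.inr (Or.inr (Or.inr (Or.inr (Or.inr (Or.inr (Or.inr (Or.inr (Or.inl ⟨rfl, h3⟩))))))))))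
    · left
      have hs' := FixBN.ReeSplit.hasSplit_of_isoRee h3
      refine ⟨3, Nat.prime_three, by norm_num, hs', ?_⟩
      obtain ⟨F, i1, i2, m, hm, hF, ⟨e⟩⟩ := h3
      obtain ⟨g, hg⟩ := (Cfsg.Agent.S1159.result hm hF 6).2 (Or.inl (dvd_refl _))
      exact ⟨e.symm g, by rw [MulEquiv.orderOf_eq]; exact hg⟩

end Cfsg.Agent.H690.LieRow
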