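import Mathlib

/-!
# Regular orbits of abelian groups on the linear characters of an abelian group

* `exists_stab`: an abelian group `A` acting on a finite abelian group `M` of coprime order has an
  element of `M` whose stabiliser is the kernel of the action;
* `exists_char`: a commutative group `A` of automorphisms of a finite abelian group `L`, of order
  prime to that of `L`, has a regular orbit on the linear characters of `L`.
-/

set_option autoImplicit false

namespace Cfsg.Agent.H690.RegOrb

open Finset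

section Abstract

variable {M : Type*} [CommGroup M] [Finite M] {A : Type*} [CommGroup A] [Finite A]
  [MulDistribMulAction A M]

/-- An abelian group acting on an abelian group of coprime order: some element has the kernel of
the action as stabiliser. -/
theorem exists_stab (hcop : (Nat.card A).Coprime (Nat.card M)) :
    ∃ m : M, ∀ a : A, a • m = m → ∀ x : M, a • x = x := by
  classical
  have hex : ∃ n : ℕ, ∃ m : M, Nat.card (MulAction.stabilizer A m) = n := ⟨_, 1, rfl⟩
  obtain ⟨l, hl'⟩ := Nat.find_spec hex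
  have hl : ∀ m : M, Nat.card (MulAction.stabilizer A l) ≤ Nat.card (MulAction.stabilizer A m) :=
    fun m => hl'.le.trans (Nat.find_min' hex ⟨m, rfl⟩)
  refine ⟨l, ?_⟩
  by_contra hcon
  push Not at hcon
  obtain ⟨y, hyl, ν, hν⟩ := hcon
  let S := MulAction.stabilizer A l
  let μ : M := (y • ν) * ν⁻¹
  have hμ : μ ≠ 1 := fun h => hν (mul_inv_eq_one.1 h)
  let _ : Fintype S := Fintype.ofFinite _
  let n := Nat.card S
  let N : M → M := fun m => ∏ a : S, (a : A) • m
  have hNmul : ∀ m m', N (m * m') = N m * N m' := by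
    intro m m'
    simp only [N, smul_mul', Finset.prod_mul_distrib]
  have hNfix : ∀ m, (∀ a : S, (a : A) • m = m) → N m = m ^ n := by
    intro m hm
    simp only [N]
    rw [Finset.prod_congr rfl fun a _ => hm a, Finset.prod_const, Finset.card_univ,
      ← Nat.card_eq_fintype_card]
  have hNy : ∀ m, N (y • m) = N m := by
    intro m
    simp only [N]
    refine Fintype.prod_equiv (Equiv.mulRight (⟨y, hyl⟩ : S)) _ _ ?_
    intro a
    simp only [Equiv.coe_mulRight, Subgroup.coe_mul, mul_smul]
  have hNμ : N μ = 1 := by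
    have h1 : N μ * N ν = N ν := by
      rw [← hNmul, inv_mul_cancel_right, hNy]
    exact mul_eq_right.1 h1
  have hNA : ∀ m, ∀ a : A, a • (N m) = N (a • m) := by
    intro m a
    simp only [N, Finset.smul_prod']
    apply Finset.prod_congr rfl
    intro b _
    rw [smul_smul, smul_smul, mul_comm]
  have hcop' : n.Coprime (Nat.card M) :=
    Nat.Coprime.coprime_dvd_left (Subgroup.card_subgroup_dvd_card _) hcop
  have hroot : ∀ m : M, m ^ n = 1 → m = 1 := by
    intro m hm
    have h3 : orderOf m ∣ Nat.gcd n (Nat.card M) :=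
      Nat.dvd_gcd (orderOf_dvd_of_pow_eq_one hm) (orderOf_dvd_natCard m)
    rw [hcop'.gcd_eq_one, Nat.dvd_one, orderOf_eq_one_iff] at h3
    exact h3
  have hsub : MulAction.stabilizer A (l * μ) ≤ S := by
    intro a ha
    have ha : a • (l * μ) = l * μ := ha
    have h1 : N (l * μ) = l ^ n := by
      rw [hNmul, hNμ, mul_one, hNfix l (fun a => a.2)]
    have h2 : a • (l ^ n) = l ^ n := by
      rw [← h1, hNA, ha]
    have h3 : ((a • l) * l⁻¹) ^ n = 1 := by
      rw [mul_pow, inv_pow, mul_inv_eq_one, ← smul_pow', h2]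
    exact mul_inv_eq_one.1 (hroot _ h3)
  have heq : MulAction.stabilizer A (l * μ) = S :=
    Subgroup.eq_of_le_of_card_ge hsub (hl _)
  apply hμ
  apply hroot
  rw [← hNfix μ ?_, hNμ]
  intro a
  have ha : (a : A) ∈ MulAction.stabilizer A (l * μ) := by rw [heq]; exact a.2
  have h1 : (a : A) • (l * μ) = l * μ := ha
  have h2 : (a : A) • l = l := a.2
  rw [smul_mul', h2] at h1
  exact mul_left_cancel h1

end Abstract

variable {L : Type*} [CommGroup L] [Finite L]

theorem exists_char_ne {l : L} (hl : l ≠ 1) : ∃ ν : L →* ℂˣ, ν l ≠ 1 :=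
  CommGroup.exists_apply_ne_one_of_hasEnoughRootsOfUnity L ℂ hl

/-- A commutative group `A` of automorphisms of a finite abelian group `L`, of order prime to that
of `L`, has a regular orbit on the linear characters of `L`. -/
theorem exists_char {K : Type*} [Group K] [Finite K] (φ : K →* MulAut L)
    (hA : ∀ a b, φ (a * b) = φ (b * a))
    (hcop : (Nat.card φ.range).Coprime (Nat.card L)) :
    ∃ l : L →* ℂˣ, ∀ a : K, (∀ x, l (φ a x) = l x) → φ a = 1 := by
  classical
  let A := φ.range
  have hAc : ∀ a b : A, a * b = b * a := by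
    rintro ⟨_, a, rfl⟩ ⟨_, b, rfl⟩
    apply Subtype.ext
    show φ a * φ b = φ b * φ a
    rw [← map_mul, ← map_mul, hA]
  let _ : CommGroup A := { (inferInstance : Group A) with mul_comm := hAc }
  let act : MulDistribMulAction A (L →* ℂˣ) :=
    { smul := fun a l => l.comp ((a : MulAut L)⁻¹).toMonoidHom
      one_smul := fun l => rfl
      mul_smul := fun a b l => by
        ext x
        show ((l (((a : MulAut L) * (b : MulAut L))⁻¹ x) : ℂˣ) : ℂ)
          = ((l ((b : MulAut L)⁻¹ ((a : MulAut L)⁻¹ x)) : ℂˣ) : ℂ)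
        rw [mul_inv_rev]
        rfl
      smul_mul := fun a l m => rfl
      smul_one := fun a => rfl }
  have hcard : Nat.card (L →* ℂˣ) = Nat.card L :=
    CommGroup.card_monoidHom_of_hasEnoughRootsOfUnity L ℂ
  have hfin : Finite (L →* ℂˣ) := Nat.finite_of_card_ne_zero (by rw [hcard]; exact Nat.card_pos.ne')
  have hfA : Finite A := inferInstance
  obtain ⟨l, hl⟩ := exists_stab (M := L →* ℂˣ) (A := A) (by rw [hcard]; exact hcop)
  refine ⟨l, fun a ha => ?_⟩
  have h1 := hl ⟨φ a, a, rfl⟩ (by
    ext x
    show ((l ((φ a)⁻¹ x) : ℂˣ) : ℂ) = ((l x : ℂˣ) : ℂ)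
    rw [← ha ((φ a)⁻¹ x), MulAut.apply_inv_self])
  by_contra hne
  obtain ⟨x, hx⟩ : ∃ x : L, φ a x ≠ x := by
    by_contra h
    push Not at h
    exact hne (MulEquiv.ext h)
  obtain ⟨ν, hν⟩ := exists_char_ne (l := φ a x * x⁻¹) (fun h => hx (mul_inv_eq_one.1 h))
  have h2 := DFunLike.congr_fun (h1 ν) (φ a x)
  have h3 : ν ((φ a)⁻¹ (φ a x)) = ν (φ a x) := h2
  rw [MulAut.inv_apply_self] at h3
  apply hν
  rw [map_mul, map_inv, ← h3, mul_inv_cancel]

end Cfsg.Agent.H690.RegOrb
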