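import Cfsg.Agent.H714.AltMore
import Cfsg.Agent.H690.LieGood
import Cfsg.Agent.S0252
import Cfsg.Agent.S0254

/-!
# Alternating groups: for every prime `p` there is a `VZ` element which is not a `p`-element
-/

set_option autoImplicit false

namespace Cfsg.Agent.H690.AltGood

open Cfsg Cfsg.Agent.H713 Cfsg.Agent.H690.LieGood

theorem good_seven {n : ℕ} (hn : 7 ≤ n) : Good (alternatingGroup (Fin n)) := by
  intro p hp
  by_cases h2 : p = 2
  · obtain ⟨x, hx, r, hr, hr5, hrx⟩ := Cfsg.Agent.H714.AltMore.exists_vz_five hn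
    refine ⟨x, hx, fun m h => ?_⟩
    rw [h] at hrx
    have := (Nat.prime_dvd_prime_iff_eq hr hp).1 (hr.dvd_of_dvd_pow hrx)
    omega
  · obtain ⟨x, hx, h4, he⟩ := Cfsg.Agent.H714.AltMore.exists_vz_even hn
    refine ⟨x, hx, fun m h => ?_⟩
    rw [h] at he
    have h3 := (Nat.prime_dvd_prime_iff_eq Nat.prime_two hp).1 (Nat.prime_two.dvd_of_dvd_pow he.two_dvd)
    exact h2 h3.symm

theorem good_five : Good (alternatingGroup (Fin 5)) := by
  let E := GaloisField 2 2
  have : Fintype E := Fintype.ofFinite _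
  have hE : Fintype.card E = 4 := by
    rw [← Nat.card_eq_fintype_card, GaloisField.card 2 2 (by norm_num)]
    norm_num
  have hsE : IsSimpleGroup (Matrix.ProjectiveSpecialLinearGroup (Fin 2) E) :=
    Matrix.ProjectiveSpecialLinearGroup.rank_two_simple (by rw [Nat.card_eq_fintype_card, hE])
  obtain ⟨e⟩ := Cfsg.Agent.S0252.result hE
  exact (good_psl_aux (F := E) (by rw [hE]) (by rw [hE]; norm_num)).congr e

theorem good_six : Good (alternatingGroup (Fin 6)) := by
  let E := GaloisField 3 2
  have : Fintype E := Fintype.ofFinite _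
  have hE : Fintype.card E = 9 := by
    rw [← Nat.card_eq_fintype_card, GaloisField.card 3 2 (by norm_num)]
    norm_num
  have hsE : IsSimpleGroup (Matrix.ProjectiveSpecialLinearGroup (Fin 2) E) :=
    Matrix.ProjectiveSpecialLinearGroup.rank_two_simple (by rw [Nat.card_eq_fintype_card, hE]; norm_num)
  obtain ⟨e⟩ := Cfsg.Agent.S0254.result hE
  exact (good_psl_aux (F := E) (by rw [hE]; norm_num) (by rw [hE]; norm_num)).congr e

theorem good_alt {n : ℕ} (hn : 5 ≤ n) : Good (alternatingGroup (Fin n)) := by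
  rcases Nat.lt_or_ge n 7 with h | h
  · obtain rfl | rfl : n = 5 ∨ n = 6 := by omega
    · exact good_five
    · exact good_six
  · exact good_seven h

end Cfsg.Agent.H690.AltGood
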