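import Cfsg.Agent.H614.Height
import Cfsg.Agent.H614.IndexTwo
import Cfsg.Agent.H614.AltBlk
import Cfsg.Agent.H670.PSing
import Cfsg.Agent.H33.IM

/-!
# Alternating groups: a degree divisible by `p²` (for S4844)

`alt_sq` : for `5 ≤ n`, an odd prime `p` with `2 p ≤ n`, `(n, p) ≠ (7, 3)`, some irreducible character
of `A_n` has degree divisible by `p²`.

A `p`-core of size `2 p + n % p` (`p ≥ 5`; sizes `6, 10, 8` if `p = 3`) one row of which is raised by a
multiple of `p`.
-/

set_option autoImplicit false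
set_option linter.unusedSimpArgs false
set_option linter.unusedVariables false

open Cfsg

namespace Cfsg.Agent.H690.AltSq

open Finset Cfsg.Agent.H614 Cfsg.Agent.Characters.Core

variable {m n p : ℕ} [hp : Fact p.Prime]

theorem sq_of_tuple (hp2 : p ≠ 2) (hn : 2 ≤ n) {β : Fin m → ℕ} (hβ : Function.Injective β)
    (hs : ∑ i, β i = n + ∑ i : Fin m, (i : ℕ))
    (hv : TT p β + 4 ≤ 2 * (padicValNat p n.factorial : ℤ)) :
    ∃ χ : IrrCharacter (alternatingGroup (Fin n)), p ^ 2 ∣ charDegree (χ : alternatingGroup (Fin n) → ℂ) := by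
  classical
  have : Nontrivial (Fin n) := Fin.nontrivial_iff_two_le.2 hn
  have h1 := TT_eq (p := p) hβ hs
  obtain ⟨γ, hγ, -, hγs, hγF⟩ := exists_sorted hβ
  have h2 : 2 ≤ padicValNat p (Int.natAbs (FM (Multiset.replicate n 1) γ)) := by
    rw [hγF]
    omega
  have hs' : ∑ i, γ i = Fintype.card (Fin n) + ∑ i : Fin m, (i : ℕ) := by
    rw [hγs, hs, Fintype.card_fin]
  have hirr : IsIrrCharacter (Equiv.Perm (Fin n)) (ch (Fin n) γ) := isIrr_ch hγ hs'
  have hpos := FM_ones_pos _ hγ hs'
  rw [Fintype.card_fin] at hpos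
  set d := Int.natAbs (FM (Multiset.replicate n 1) γ) with hd
  have hd0 : d ≠ 0 := by omega
  have hd1 : ch (Fin n) γ 1 = (d : ℂ) := by
    rw [ch_apply, ty_one, Fintype.card_fin]
    have h3 : (d : ℤ) = FM (Multiset.replicate n 1) γ := by omega
    exact_mod_cast h3.symm
  have hdvd : p ^ 2 ∣ d := (padicValNat_dvd_iff_le hd0).2 h2
  obtain ⟨θ, hθ⟩ := exists_constituent (alternatingGroup (Fin n)) hirr
  refine ⟨θ, ?_⟩
  obtain ⟨e, he0, he1⟩ := isIrr_apply_one θ.2
  rw [H670.PSing.charDegree_eq_of he1]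
  rcases restrict_two (alternatingGroup (Fin n)) alternatingGroup.index_eq_two hirr θ.2 hθ with h | ⟨h, -⟩
  · have h3 := h 1
    rw [OneMemClass.coe_one, hd1, he1] at h3
    have h4 : d = e := by exact_mod_cast h3
    exact h4 ▸ hdvd
  · rw [hd1, he1] at h
    have h3 : d = 2 * e := by exact_mod_cast h
    rw [h3] at hdvd
    exact (Nat.Coprime.dvd_mul_left
      (((Nat.coprime_primes hp.out Nat.prime_two).2 hp2).pow_left 2)).1 hdvd

theorem val_fac_lt {b : ℕ} (h : b < p) : padicValNat p b.factorial = 0 := by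
  rw [val_factorial, Nat.div_eq_of_lt h]
  simp

theorem val_fac_add {b : ℕ} (h : b < p) : padicValNat p (b + p).factorial = 1 := by
  rw [val_factorial, Nat.add_div_right _ hp.out.pos, Nat.div_eq_of_lt h]
  simp

theorem val_fac_mono {a b : ℕ} (h : a ≤ b) : padicValNat p a.factorial ≤ padicValNat p b.factorial := by
  refine (padicValNat_dvd_iff_le (Nat.factorial_ne_zero _)).1 ?_
  exact (pow_padicValNat_dvd).trans (Nat.factorial_dvd_factorial h)

/-- raising a full runner of a tuple with `TT = 0` -/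
theorem sq_of_core (hp2 : p ≠ 2) {κ : Fin m → ℕ} (hκ : Function.Injective κ) (hT : TT p κ = 0)
    {j : Fin m} (hg : Ground p κ j) {w c : ℕ} (hs : ∑ i, κ i = c + ∑ i : Fin m, (i : ℕ)) (hn : n = c + p * w)
    (hc : 2 * p ≤ c) :
    ∃ χ : IrrCharacter (alternatingGroup (Fin n)), p ^ 2 ∣ charDegree (χ : alternatingGroup (Fin n) → ℂ) := by
  have hpp := hp.out.two_le
  refine sq_of_tuple hp2 (by omega) (hg.injective hκ w) (by rw [sum_up, hs, hn]; ring) ?_
  rw [hg.TT_up hκ, hT, hn]
  have h1 : 2 + w ≤ (c + p * w) / p := by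
    rw [Nat.add_mul_div_left _ _ hp.out.pos]
    have h2 : 2 ≤ c / p := by
      rw [Nat.le_div_iff_mul_le hp.out.pos]
      exact hc
    omega
  have h3 := val_factorial (p := p) (c + p * w)
  have h4 : padicValNat p w.factorial ≤ padicValNat p ((c + p * w) / p).factorial :=
    val_fac_mono (by omega)
  omega

omit hp in
theorem exists_uv {b : ℕ} (hp5 : 5 ≤ p) (hb : b < p) (hex : ¬ (p = 5 ∧ b = 4)) :
    ∃ u v : ℕ, u < p ∧ v < p ∧ u ≠ v ∧ 2 * u + v = p + 3 + b := by
  by_cases h : p + 3 + b < 2 * p - 2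
  · exact ⟨(p + 3 + b) / 2, (p + 3 + b) % 2, by omega, by omega, by omega, by omega⟩
  · exact ⟨p - 1, p + 3 + b - 2 * (p - 1), by omega, by omega, by omega, by omega⟩

theorem TT_three {u v : ℕ} (hu : u < p) (hv : v < p) (huv : u ≠ v) :
    TT p (![u, v, u + p] : Fin 3 → ℕ) = 0 := by
  have h1 : vd p u v = 0 := vd_of_mod_ne (by rw [Nat.mod_eq_of_lt hu, Nat.mod_eq_of_lt hv]; exact huv)
  have h2 : vd p v (u + p) = 0 :=
    vd_of_mod_ne (by rw [Nat.add_mod_right, Nat.mod_eq_of_lt hu, Nat.mod_eq_of_lt hv]; exact huv.symm)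
  have hpp := hp.out.pos
  have h3 : vd p u (u + p) = 1 := by
    rw [vd_of_mod_eq (by rw [Nat.add_mod_right]) (by omega), Nat.add_div_right _ hpp, Nat.div_eq_of_lt hu,
      vd_comm, vd_of_le p (by omega)]
    simp
  have h4 : vd p v u = 0 := by rw [vd_comm]; exact h1
  have h5 : vd p (u + p) v = 0 := by rw [vd_comm]; exact h2
  have h6 : vd p (u + p) u = 1 := by rw [vd_comm]; exact h3
  unfold TT
  simp only [Fin.sum_univ_three, Matrix.cons_val_zero, Matrix.cons_val_one, Matrix.cons_val_two,
    Matrix.head_cons, Matrix.tail_cons, Matrix.cons_val, vd_self, h1, h2, h3, h4, h5, h6,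
    val_fac_lt hu, val_fac_lt hv, val_fac_add hu]
  norm_num

/-- the primes at least `5` -/
theorem alt_sq_five (hp5 : 5 ≤ p) (h : 2 * p ≤ n) :
    ∃ χ : IrrCharacter (alternatingGroup (Fin n)), p ^ 2 ∣ charDegree (χ : alternatingGroup (Fin n) → ℂ) := by
  have hpp := hp.out.pos
  have hb : n % p < p := Nat.mod_lt _ hpp
  have hdm := Nat.div_add_mod n p
  have ha : 2 ≤ n / p := by
    rw [Nat.le_div_iff_mul_le hpp]
    exact h
  obtain ⟨w, hw⟩ : ∃ w, n / p = w + 2 := ⟨n / p - 2, by omega⟩
  have hn : n = (2 * p + n % p) + p * w := by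
    conv_lhs => rw [← hdm, hw]
    ring
  by_cases hex : p = 5 ∧ n % p = 4
  · obtain ⟨h5, h4⟩ := hex
    subst h5
    have hinj : Function.Injective (![1, 4, 6, 9] : Fin 4 → ℕ) := by decide
    refine sq_of_core (p := 5) (by omega) (κ := ![1, 4, 6, 9]) hinj ?_ (j := 3) ?_ (w := w) (c := 14)
      (by decide) (by omega) (by omega)
    · have e1 : vd 5 1 6 = 1 := by
        rw [vd_of_mod_eq (by norm_num) (by norm_num)]; norm_num [vd]
      have e2 : vd 5 4 9 = 1 := by
        rw [vd_of_mod_eq (by norm_num) (by norm_num)]; norm_num [vd]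
      have e1' : vd 5 6 1 = 1 := by rw [vd_comm]; exact e1
      have e2' : vd 5 9 4 = 1 := by rw [vd_comm]; exact e2
      have f : ∀ a b : ℕ, a % 5 ≠ b % 5 → vd 5 a b = 0 := fun a b => vd_of_mod_ne
      have g1 : padicValNat 5 (Nat.factorial 1) = 0 := val_fac_lt (by norm_num)
      have g2 : padicValNat 5 (Nat.factorial 4) = 0 := val_fac_lt (by norm_num)
      have g3 : padicValNat 5 (Nat.factorial 6) = 1 := val_fac_add (b := 1) (by norm_num)
      have g4 : padicValNat 5 (Nat.factorial 9) = 1 := val_fac_add (b := 4) (by norm_num)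
      unfold TT
      simp only [Fin.sum_univ_four, Matrix.cons_val_zero, Matrix.cons_val_one, Matrix.cons_val_two,
        Matrix.head_cons, Matrix.tail_cons, Matrix.cons_val, vd_self, e1, e2, e1', e2', g1, g2, g3, g4,
        f 1 4 (by norm_num), f 4 1 (by norm_num), f 1 9 (by norm_num), f 9 1 (by norm_num),
        f 4 6 (by norm_num), f 6 4 (by norm_num), f 6 9 (by norm_num), f 9 6 (by norm_num)]
      norm_num
    · intro x hx
      have hx' : x % 5 = 4 := hx
      constructor
      · rintro ⟨i, hi, rfl⟩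
        fin_cases i <;> first | exact absurd rfl hi | (show _ < _; decide)
      · intro hlt
        have hlt' : x < 9 := hlt
        have : x = 4 := by omega
        exact ⟨1, by decide, by rw [this]; rfl⟩
  · obtain ⟨u, v, hu, hv, huv, huv2⟩ := exists_uv hp5 hb hex
    have hinj : Function.Injective (![u, v, u + p] : Fin 3 → ℕ) := by
      intro i j hij
      fin_cases i <;> fin_cases j <;> simp at hij ⊢ <;> omega
    refine sq_of_core (by omega) (κ := ![u, v, u + p]) hinj (TT_three hu hv huv) (j := 2) ?_ (w := w)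
      (c := 2 * p + n % p) ?_ hn (by omega)
    · intro x hx
      have hx' : x % p = u := by
        have : x % p = (u + p) % p := hx
        rw [this, Nat.add_mod_right, Nat.mod_eq_of_lt hu]
      constructor
      · rintro ⟨i, hi, rfl⟩
        fin_cases i
        · simp; omega
        · simp; omega
        · exact absurd rfl hi
      · intro hlt
        have hlt' : x < u + p := hlt
        have h1 := Nat.div_add_mod x p
        have h2 : x / p < 1 := by
          by_contra hge
          have : p * 1 ≤ p * (x / p) := Nat.mul_le_mul_left p (by omega)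
          omega
        have h3 : x / p = 0 := Nat.lt_one_iff.1 h2
        rw [h3] at h1
        exact ⟨0, by decide, by simp; omega⟩
    · simp [Fin.sum_univ_three]
      omega

omit hp in
theorem TT_list {κ : Fin m → ℕ} (h : 2 * ∑ i, (padicValNat p (κ i).factorial) = ∑ i, ∑ j, vd p (κ i) (κ j)) :
    TT p κ = 0 := by
  unfold TT
  have h' := congrArg (Nat.cast : ℕ → ℤ) h
  simp only [Nat.cast_mul, Nat.cast_sum, Nat.cast_ofNat] at h'
  linarith

/-- the prime `3` -/
theorem alt_sq_three (h : 6 ≤ n) (h7 : n ≠ 7) :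
    ∃ χ : IrrCharacter (alternatingGroup (Fin n)), 3 ^ 2 ∣ charDegree (χ : alternatingGroup (Fin n) → ℂ) := by
  have : Fact (Nat.Prime 3) := ⟨Nat.prime_three⟩
  have f : ∀ a b : ℕ, a % 3 ≠ b % 3 → vd 3 a b = 0 := fun a b => vd_of_mod_ne
  have e : ∀ a : ℕ, vd 3 a (a + 3) = 1 := fun a => by
    rw [vd_comm, vd_of_le 3 (by omega), Nat.add_sub_cancel_left]
    exact padicValNat_self
  have e' : ∀ a : ℕ, vd 3 (a + 3) a = 1 := fun a => by rw [vd_comm]; exact e a
  have v6 : padicValNat 3 6 = 1 := by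
    rw [show 6 = 3 * 2 by norm_num, padicValNat.mul (by norm_num) (by norm_num), padicValNat_self,
      padicValNat.eq_zero_of_not_dvd (by norm_num)]
  have k : ∀ a : ℕ, vd 3 a (a + 6) = 1 := fun a => by
    rw [vd_comm, vd_of_le 3 (by omega), Nat.add_sub_cancel_left]
    exact v6
  have k' : ∀ a : ℕ, vd 3 (a + 6) a = 1 := fun a => by rw [vd_comm]; exact k a
  have g1 : padicValNat 3 (Nat.factorial 1) = 0 := val_fac_lt (by norm_num)
  have g2 : padicValNat 3 (Nat.factorial 2) = 0 := val_fac_lt (by norm_num)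
  have g4 : padicValNat 3 (Nat.factorial 4) = 1 := val_fac_add (b := 1) (by norm_num)
  have g5 : padicValNat 3 (Nat.factorial 5) = 1 := val_fac_add (b := 2) (by norm_num)
  have g7 : padicValNat 3 (Nat.factorial 7) = 2 := by
    rw [val_factorial]
    norm_num
  have g8 : padicValNat 3 (Nat.factorial 8) = 2 := by
    rw [val_factorial]
    norm_num
  obtain h0 | h1 | h2 : n % 3 = 0 ∨ n % 3 = 1 ∨ n % 3 = 2 := by omega
  · refine sq_of_core (p := 3) (by omega) (κ := ![2, 5]) (by decide) (TT_list ?_) (j := 1) ?_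
      (w := (n - 6) / 3) (c := 6) (by decide) (by omega) (by omega)
    · simp only [Fin.sum_univ_two, Matrix.cons_val_zero, Matrix.cons_val_one, Matrix.head_cons,
        Matrix.cons_val, vd_self, g2, g5, e 2, e' 2]
      norm_num
    · intro x hx
      have hx' : x % 3 = 2 := hx
      constructor
      · rintro ⟨i, hi, rfl⟩
        fin_cases i <;> first | exact absurd rfl hi | (show _ < _; decide)
      · intro hlt
        have hlt' : x < 5 := hlt
        have : x = 2 := by omega
        exact ⟨0, by decide, by rw [this]; rfl⟩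
  · refine sq_of_core (p := 3) (by omega) (κ := ![1, 2, 5, 8]) (by decide) (TT_list ?_) (j := 3) ?_
      (w := (n - 10) / 3) (c := 10) (by decide) (by omega) (by omega)
    · simp only [Fin.sum_univ_four, Matrix.cons_val_zero, Matrix.cons_val_one, Matrix.cons_val_two,
        Matrix.head_cons, Matrix.tail_cons, Matrix.cons_val, vd_self, g1, g2, g5, g8,
        e 2, e' 2, e 5, e' 5, k 2, k' 2,
        f 1 2 (by norm_num), f 2 1 (by norm_num), f 1 5 (by norm_num), f 5 1 (by norm_num),
        f 1 8 (by norm_num), f 8 1 (by norm_num)]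
      norm_num
    · intro x hx
      have hx' : x % 3 = 2 := hx
      constructor
      · rintro ⟨i, hi, rfl⟩
        fin_cases i <;> first | exact absurd rfl hi | (show _ < _; decide)
      · intro hlt
        have hlt' : x < 8 := hlt
        obtain h3 | h3 : x = 2 ∨ x = 5 := by omega
        · exact ⟨1, by decide, by rw [h3]; rfl⟩
        · exact ⟨2, by decide, by rw [h3]; rfl⟩
  · refine sq_of_core (p := 3) (by omega) (κ := ![1, 2, 4, 7]) (by decide) (TT_list ?_) (j := 3) ?_
      (w := (n - 8) / 3) (c := 8) (by decide) (by omega) (by omega)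
    · simp only [Fin.sum_univ_four, Matrix.cons_val_zero, Matrix.cons_val_one, Matrix.cons_val_two,
        Matrix.head_cons, Matrix.tail_cons, Matrix.cons_val, vd_self, g1, g2, g4, g7,
        e 1, e' 1, e 4, e' 4, k 1, k' 1,
        f 1 2 (by norm_num), f 2 1 (by norm_num), f 2 4 (by norm_num), f 4 2 (by norm_num),
        f 2 7 (by norm_num), f 7 2 (by norm_num)]
      norm_num
    · intro x hx
      have hx' : x % 3 = 1 := hx
      constructor
      · rintro ⟨i, hi, rfl⟩
        fin_cases i <;> first | exact absurd rfl hi | (show _ < _; decide)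
      · intro hlt
        have hlt' : x < 7 := hlt
        obtain h3 | h3 : x = 1 ∨ x = 4 := by omega
        · exact ⟨0, by decide, by rw [h3]; rfl⟩
        · exact ⟨2, by decide, by rw [h3]; rfl⟩

/-- **The alternating groups.** -/
theorem alt_sq {n p : ℕ} (hn : 5 ≤ n) (hp : p.Prime) (h3 : 3 ≤ p) (h : 2 * p ≤ n) (hex : ¬ (n = 7 ∧ p = 3)) :
    ∃ χ : IrrCharacter (alternatingGroup (Fin n)), p ^ 2 ∣ charDegree (χ : alternatingGroup (Fin n) → ℂ) := by
  have : Fact p.Prime := ⟨hp⟩
  rcases Nat.lt_or_ge p 5 with h5 | h5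
  · have h4 : p ≠ 4 := by
      rintro rfl
      revert hp
      decide
    obtain rfl : p = 3 := by omega
    exact alt_sq_three (by omega) (fun h7 => hex ⟨h7, rfl⟩)
  · exact alt_sq_five h5 h

/-- the size of an alternating group with order divisible by `p²` -/
theorem two_mul_le {n p : ℕ} (hp : p.Prime) (hp2 : p ≠ 2) (hn : 5 ≤ n)
    (hd : p ^ 2 ∣ Nat.card (alternatingGroup (Fin n))) : 2 * p ≤ n := by
  by_contra hlt
  have : Fact p.Prime := ⟨hp⟩
  have : Nontrivial (Fin n) := Fin.nontrivial_iff_two_le.2 (by omega)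
  have h1 : 2 * Nat.card (alternatingGroup (Fin n)) = n.factorial := by
    rw [Nat.card_eq_fintype_card, two_mul_card_alternatingGroup, Fintype.card_perm, Fintype.card_fin]
  have h2 : p ^ 2 ∣ n.factorial := h1 ▸ Dvd.dvd.mul_left hd 2
  have h3 : 2 ≤ padicValNat p n.factorial := (padicValNat_dvd_iff_le (Nat.factorial_ne_zero _)).1 h2
  rw [val_factorial] at h3
  have h4 : n / p < 2 := by
    rw [Nat.div_lt_iff_lt_mul hp.pos]
    omega
  generalize n / p = q at h3 h4
  obtain rfl | rfl : q = 0 ∨ q = 1 := by omega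
  · simp at h3
  · simp at h3

/-- **The alternating groups**, in the form of the team. -/
theorem sq_alt {n : ℕ} (hn : 5 ≤ n) {p : ℕ} [hp : Fact p.Prime] (hp2 : p ≠ 2)
    (hd : p ^ 2 ∣ Nat.card (alternatingGroup (Fin n))) (h7 : ¬ (p = 3 ∧ n = 7)) :
    Cfsg.Agent.H33.IM (p ^ 2) (alternatingGroup (Fin n)) := by
  have h2 := hp.out.two_le
  exact alt_sq hn hp.out (by omega) (two_mul_le hp.out hp2 hn hd) (fun h => h7 ⟨h.2, h.1⟩)

end Cfsg.Agent.H690.AltSq
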