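import Mathlib
import Cfsg.Prelude.Def_Characters
import Cfsg.Prelude.Def_Blocks
import Cfsg.Prelude.Def_Solvable
import Cfsg.Agent.S0191
import Cfsg.Agent.H690.SolvStruct

/-!
# Groups all of whose vanishing elements are `p`-elements: the end
-/

set_option autoImplicit false

namespace Cfsg.Agent.H690.SolvFinal

open Cfsg Cfsg.Agent.Characters Cfsg.Agent.H690.Van Cfsg.Agent.H690.SolvStruct
open scoped Pointwise

universe u

variable {G : Type u} [Group G]

theorem not_vn_center [Finite G] {z : G} (hz : z ∈ Subgroup.center G) : ¬ Vn z := by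
  rintro ⟨χ, hχ⟩
  have h1 := central_mul χ hz z⁻¹
  rw [mul_inv_cancel, hχ, zero_div, zero_mul] at h1
  exact Core.isIrr_apply_one_ne_zero χ.2 h1

theorem exists_vn [Finite G] (hna : ¬ IsMulCommutative G) : ∃ g : G, Vn g := by
  by_contra hcon
  push Not at hcon
  apply hna
  refine IsMulCommutative.of_comm fun a b => ?_
  refine Cfsg.Agent.CharDeep.PowerDegrees.comm_of_forall_linear (fun χ => ?_) a b
  obtain ⟨n, ρ, hρ, hχ⟩ := χ.2
  by_contra h1
  have h2 : (χ : G → ℂ) 1 = (Module.finrank ℂ (Fin n → ℂ) : ℂ) := by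
    rw [← hχ, Representation.char_one]
  obtain ⟨m, hm0, hm⟩ := Core.isIrr_apply_one χ.2
  have h3 : 1 < Module.finrank ℂ (Fin n → ℂ) := by
    have h4 : Module.finrank ℂ (Fin n → ℂ) = m := by
      have := h2.symm.trans hm
      exact_mod_cast this
    rw [h4]
    have h5 : m ≠ 1 := by
      rintro rfl
      apply h1
      rw [hm, Nat.cast_one]
    omega
  have := hρ
  obtain ⟨g, hg⟩ := Cfsg.Agent.S0191.result ρ h3
  exact hcon g ⟨χ, by rw [← hχ]; exact hg⟩

theorem final [Finite G] {p : ℕ} [hp : Fact p.Prime] (hna : ¬ IsMulCommutative G) (hV : VP p G)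
    (hnp : ¬ IsPGroup p G) {H : Subgroup G} (hS : Str p G H) :
    Subgroup.center G = pCore p G ∧
      ∃ C : Subgroup (G ⧸ Subgroup.center G), IsFrobeniusComplement C ∧ IsPGroup p C := by
  obtain ⟨hHn, hHp, ⟨k, hk⟩, hcen⟩ := hS
  let P : Sylow p G := default
  have hpe : ∀ x ∈ (P : Subgroup G), ∃ m, orderOf x = p ^ m := by
    intro x hx
    obtain ⟨m, hm⟩ := (IsPGroup.iff_orderOf.1 P.2) ⟨x, hx⟩
    exact ⟨m, by rw [← hm, Subgroup.orderOf_mk]⟩
  have hdisj : ∀ x, x ∈ H → (∃ m, orderOf x = p ^ m) → x = 1 := fun x hx hx' =>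
    eq_one_of_coprime_of_pow (order_coprime_of_mem hHp hx) hx'
  -- `G = H P`
  have hHP : ∀ g : G, ∃ h ∈ H, ∃ u ∈ (P : Subgroup G), g = h * u := by
    have h1 : H ⊔ (P : Subgroup G) = ⊤ := by
      rw [← Subgroup.index_eq_one]
      have h2 : (H ⊔ (P : Subgroup G)).index ∣ p ^ k := by
        rw [← hk]; exact Subgroup.index_dvd_of_le le_sup_left
      have h3 : (H ⊔ (P : Subgroup G)).index ∣ (P : Subgroup G).index :=
        Subgroup.index_dvd_of_le le_sup_right
      have h4 : ((P : Subgroup G).index).Coprime (p ^ k) :=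
        Nat.Coprime.pow_right k
          ((Nat.Prime.coprime_iff_not_dvd hp.out).2 P.not_dvd_index).symm
      exact Nat.dvd_one.1 (h4 ▸ Nat.dvd_gcd h3 h2)
    intro g
    have hg : g ∈ H ⊔ (P : Subgroup G) := by rw [h1]; trivial
    rw [← SetLike.mem_coe, Subgroup.normal_mul] at hg
    obtain ⟨h, hh, u, hu, rfl⟩ := hg
    exact ⟨h, hh, u, hu, rfl⟩
  have hHb : H ≠ ⊥ := by
    intro h
    apply hnp
    apply IsPGroup.of_card (n := k)
    rw [← hk, h, Subgroup.index_bot]
  obtain ⟨h0, hh0, hh01⟩ := (Subgroup.bot_or_exists_ne_one H).resolve_left hHb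
  -- `P` is not central
  have hPZ : ¬ (P : Subgroup G) ≤ Subgroup.center G := by
    intro hPZ
    obtain ⟨g, hg⟩ := exists_vn hna
    obtain ⟨m, hm⟩ := hV g hg
    apply not_vn_center (z := g) _ hg
    have hpg : IsPGroup p (Subgroup.zpowers g) := by
      apply IsPGroup.of_card (n := m)
      rw [Nat.card_zpowers, hm]
    obtain ⟨Q, hQ⟩ := hpg.exists_le_sylow
    obtain ⟨c, hc⟩ := MulAction.exists_smul_eq G P Q
    have h1 : g ∈ (Q : Subgroup G) := hQ (Subgroup.mem_zpowers g)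
    rw [← hc, Sylow.coe_subgroup_smul, Subgroup.mem_pointwise_smul_iff_inv_smul_mem] at h1
    have h2 := hPZ h1
    have h4 := (inferInstance : (Subgroup.center G).Normal).conj_mem _ h2 c
    have h5 : c * ((MulAut.conj c)⁻¹ • g) * c⁻¹ = g := by
      rw [← map_inv, MulAut.smul_def, MulAut.conj_apply]
      group
    rwa [h5] at h4
  have hZH : ∀ z ∈ Subgroup.center G, z ∈ H → z = 1 := by
    intro z hz hzH
    by_contra hz1
    apply hPZ
    intro x hx
    exact hcen x (hpe x hx) z hzH hz1 ((Subgroup.mem_center_iff.1 hz x).symm)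
  have hZp : IsPGroup p (Subgroup.center G) := by
    intro z
    refine ⟨k, ?_⟩
    have h1 : (z : G) ^ (p ^ k) ∈ H := by
      rw [← hk]
      exact Subgroup.pow_index_mem H (z : G)
    exact Subtype.ext (hZH _ (Subgroup.pow_mem _ z.2 _) h1)
  have hnorm : ∀ N : Subgroup G, N.Normal → IsPGroup p N → N ≤ Subgroup.center G := by
    intro N hN hNp x hx
    have hxp : ∃ m, orderOf x = p ^ m := by
      obtain ⟨m, hm⟩ := (IsPGroup.iff_orderOf.1 hNp) ⟨x, hx⟩
      exact ⟨m, by rw [← hm, Subgroup.orderOf_mk]⟩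
    refine hcen x hxp h0 hh0 hh01 ?_
    have h1 : h0 * x * h0⁻¹ * x⁻¹ ∈ N := N.mul_mem (hN.conj_mem x hx h0) (N.inv_mem hx)
    have h2 : h0 * x * h0⁻¹ * x⁻¹ ∈ H := by
      have : h0 * x * h0⁻¹ * x⁻¹ = h0 * (x * h0⁻¹ * x⁻¹) := by group
      rw [this]
      exact H.mul_mem hh0 (hHn.conj_mem _ (H.inv_mem hh0) x)
    have h3 : h0 * x * h0⁻¹ * x⁻¹ = 1 := by
      apply hdisj _ h2
      obtain ⟨m, hm⟩ := (IsPGroup.iff_orderOf.1 hNp) ⟨_, h1⟩
      exact ⟨m, by rw [← hm, Subgroup.orderOf_mk]⟩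
    rw [mul_inv_eq_one, mul_inv_eq_iff_eq_mul] at h3
    exact h3
  have hZP : Subgroup.center G ≤ (P : Subgroup G) := by
    have h1 : IsPGroup p (Subgroup.center G ⊔ (P : Subgroup G) : Subgroup G) :=
      hZp.to_sup_of_normal_left P.2
    have h2 := P.3 h1 le_sup_right
    rw [← h2]
    exact le_sup_left
  refine ⟨?_, ?_⟩
  · apply le_antisymm
    · exact le_sSup ⟨inferInstance, hZp⟩
    · exact sSup_le fun N hN => hnorm N hN.1 hN.2
  · let Z := Subgroup.center G
    refine ⟨(P : Subgroup G).map (QuotientGroup.mk' Z), ⟨?_, ?_, ?_⟩, P.2.map _⟩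
    · intro h
      rw [Subgroup.map_eq_bot_iff, QuotientGroup.ker_mk'] at h
      exact hPZ h
    · intro h
      apply hnp
      have h1 : (P : Subgroup G) = ⊤ := by
        rw [eq_top_iff]
        intro g _
        have hg : (g : G ⧸ Z) ∈ (P : Subgroup G).map (QuotientGroup.mk' Z) := by rw [h]; trivial
        obtain ⟨y, hy, hyg⟩ := hg
        have h2 : y⁻¹ * g ∈ Z := QuotientGroup.eq.1 hyg
        have := (P : Subgroup G).mul_mem hy (hZP h2)
        rwa [mul_inv_cancel_left] at this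
      have h2 := P.2
      rw [h1] at h2
      exact h2.of_equiv Subgroup.topEquiv
    · intro g hg
      obtain ⟨g, rfl⟩ := QuotientGroup.mk_surjective g
      rw [eq_bot_iff]
      intro x hx12
      obtain ⟨hx1, hx2⟩ := Subgroup.mem_inf.1 hx12
      obtain ⟨x, hx, rfl⟩ := hx1
      rw [Subgroup.mem_pointwise_smul_iff_inv_smul_mem] at hx2
      obtain ⟨y, hy, hyx⟩ := hx2
      have h1 : ((g⁻¹ * x * g : G) : G ⧸ Z) = (y : G ⧸ Z) := by
        have h2 : ((MulAut.conj (g : G ⧸ Z))⁻¹ • (QuotientGroup.mk' Z) x)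
            = ((g⁻¹ * x * g : G) : G ⧸ Z) := by
          rw [← map_inv, MulAut.smul_def, MulAut.conj_apply, inv_inv]
          rfl
        rw [← h2]
        exact hyx.symm
      have h2 : g⁻¹ * x * g ∈ (P : Subgroup G) := by
        have h3 : y⁻¹ * (g⁻¹ * x * g) ∈ Z := QuotientGroup.eq.1 h1.symm
        have := (P : Subgroup G).mul_mem hy (hZP h3)
        rwa [mul_inv_cancel_left] at this
      obtain ⟨h, hh, u, hu, hgi⟩ := hHP g⁻¹
      -- `g⁻¹ = h u`, so `h (u x u⁻¹) h⁻¹ ∈ P`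
      have hx' : u * x * u⁻¹ ∈ (P : Subgroup G) :=
        (P : Subgroup G).mul_mem ((P : Subgroup G).mul_mem hu hx) ((P : Subgroup G).inv_mem hu)
      have h3 : h * (u * x * u⁻¹) * h⁻¹ ∈ (P : Subgroup G) := by
        have h4 : g⁻¹ * x * g = h * (u * x * u⁻¹) * h⁻¹ := by
          have h5 : g = (h * u)⁻¹ := by rw [← hgi, inv_inv]
          rw [h5]; group
        rwa [h4] at h2
      have h4 : h * (u * x * u⁻¹) * h⁻¹ * (u * x * u⁻¹)⁻¹ = 1 := by
        apply hdisj
        · have : h * (u * x * u⁻¹) * h⁻¹ * (u * x * u⁻¹)⁻¹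
            = h * ((u * x * u⁻¹) * h⁻¹ * (u * x * u⁻¹)⁻¹) := by group
          rw [this]
          exact H.mul_mem hh (hHn.conj_mem _ (H.inv_mem hh) _)
        · exact hpe _ ((P : Subgroup G).mul_mem h3 ((P : Subgroup G).inv_mem hx'))
      have h5 : h ≠ 1 := by
        intro h6
        apply hg
        refine ⟨g, ?_, rfl⟩
        rw [h6, one_mul] at hgi
        have := (P : Subgroup G).inv_mem hu
        rw [← hgi, inv_inv] at this
        exact this
      have h6 : u * x * u⁻¹ ∈ Z := by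
        refine hcen _ (hpe _ hx') h hh h5 ?_
        rw [mul_inv_eq_one, mul_inv_eq_iff_eq_mul] at h4
        exact h4
      have h7 : x ∈ Z := by
        have h8 := (inferInstance : Z.Normal).conj_mem _ h6 u⁻¹
        have h9 : u⁻¹ * (u * x * u⁻¹) * u⁻¹⁻¹ = x := by group
        rwa [h9] at h8
      rw [Subgroup.mem_bot]
      exact (QuotientGroup.eq_one_iff x).2 h7

end Cfsg.Agent.H690.SolvFinal
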