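import Cfsg.Agent.H690.Spor.Table
import Cfsg.Agent.H690.Spor.Tits
import Cfsg.Agent.H690.SolvFinal
import Cfsg.Agent.H690.Reduce

/-!
# S4848: the assembly (helper690)
-/

set_option autoImplicit false

namespace Cfsg.Agent.H690.Main

open Cfsg Cfsg.Agent.H713 Cfsg.Agent.H690.LieGood Cfsg.Agent.H690.Spor.Trans

universe u

theorem not_comm {K : Type u} [Group K] (hna : ∃ a b : K, a * b ≠ b * a) : ¬ IsMulCommutative K := by
  obtain ⟨a, b, hab⟩ := hna
  intro h
  exact hab (h.is_comm.comm a b)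

/-- All known nonabelian simple groups. -/
theorem good_known (hS : AllKnown) {K : Type u} [Group K] [Finite K] [IsSimpleGroup K]
    (hTh : Spor.IsoTh K → Good K) (hHN : Spor.IsoHN K → Good K) (hna : ∃ a b : K, a * b ≠ b * a)
    (h : IsKnownSimple' K) : Good K := by
  rcases Cfsg.Agent.OddHalf.Known.classify' (not_comm hna) h with h | h | h | h
  · obtain ⟨n, hn, ⟨e⟩⟩ := h
    exact (AltGood.good_alt hn).congr e.symm
  · obtain ⟨p, hp, h⟩ := h
    exact good_lie hp hna h
  · exact Spor.Tits.good h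
  · exact Spor.Table.good hS hTh hHN h

/-- **The main theorem.** -/
theorem main (hS : AllKnown) (hK : ∀ (K : Type u) [Group K] [Finite K] [IsSimpleGroup K], IsKnownSimple' K)
    (hTh : ∀ (K : Type u) [Group K] [Finite K], Spor.IsoTh K → Good K)
    (hHN : ∀ (K : Type u) [Group K] [Finite K], Spor.IsoHN K → Good K)
    {G : Type u} [Group G] [Finite G] (hna : ¬ IsMulCommutative G) (p : ℕ) [hp : Fact p.Prime]
    (hvan : ∀ g : G, (∃ χ : Cfsg.IrrCharacter G, (χ : G → ℂ) g = 0) → ∃ m : ℕ, 1 ≤ m ∧ orderOf g = p ^ m) :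
    IsPGroup p G ∨ (Subgroup.center G = Cfsg.pCore p G ∧ ∃ H : Subgroup (G ⧸ Subgroup.center G),
      Cfsg.IsFrobeniusComplement H ∧ IsPGroup p H) := by
  have hV : SolvStruct.VP p G := fun g hg => by
    obtain ⟨m, -, hm⟩ := hvan g hg
    exact ⟨m, hm⟩
  by_cases hpG : IsPGroup p G
  · exact Or.inl hpG
  · right
    have hsolv : Group.IsSolvable G := by
      by_contra hns
      obtain ⟨N, hN, T, hT, hTna, hTv⟩ := Reduce.exists_section (Nat.card G) G le_rfl hns
      have hgood : Good T := good_known hS (hTh T) (hHN T) hTna (hK T)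
      obtain ⟨x, hx, hx'⟩ := hgood p hp.1
      obtain ⟨m, hm⟩ := hV.quot hp.1 N (x : G ⧸ N) (hTv x hx)
      exact hx' m (by rw [← hm, Subgroup.orderOf_coe])
    obtain ⟨H, hH⟩ := SolvStruct.exists_str (Nat.card G) G rfl hV
    exact SolvFinal.final hna hV hpG hH

end Cfsg.Agent.H690.Main
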