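import Cfsg.Agent.H696.PSq.DefsE
import Cfsg.Agent.H219.PSq.Psl
import Cfsg.Agent.H674.Sq.OddMinus
import Cfsg.Agent.H734.PSq.Plus
import Cfsg.Agent.H582.Sq.E78
import Cfsg.Agent.H690.Sq.E6
import Cfsg.Agent.H730.Sq.Main
import Cfsg.Agent.H811.PSq.GTwoMain
import Cfsg.Agent.H628.Sq.Sz
import Cfsg.Agent.H628.Sq.Ree
import Cfsg.Agent.H628.Sq.Tits
import Cfsg.Agent.H987.PSq.Psp
import Cfsg.Agent.H501.PSq.TdMain
import Cfsg.Prelude.Def_Classification2

/-!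
# S4844, team PSQ: assembly of the rows of Lie type (helper690)

`Row p P` : every simple group `S` with the property `P` and `p ^ 2 ∣ |S|` has an irreducible degree divisible by `p ^ 2`,
or satisfies `EvenC`.
-/

set_option autoImplicit false

namespace Cfsg.Agent.H690.SqLie

open Cfsg

universe u

/-- The row of a family. -/
def Row (P : ∀ (S : Type u) [Group S], Prop) : Prop :=
  ∀ {S : Type u} [Group S] [Finite S], P S → IsSimpleGroup S → ∀ {p : ℕ} [Fact p.Prime], p ≠ 2 →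
    p ^ 2 ∣ Nat.card S → H33.IM (p ^ 2) S ∨ H696.PSq.EvenC p S

/-- **The rows of Lie type**, from the open rows. -/
theorem sq_lie_of (hpsu : Row.{u} fun S _ => IsPSU S)
    (h2f4 : Row.{u} fun S _ => Lie.Iso2F4 S)
    {S : Type u} [Group S] [Finite S] (hs : IsSimpleGroup S)
    (h : IsPSL S ∨ IsPSp S ∨ IsPSU S ∨ IsPOmegaOdd S ∨ IsPOmegaPlus S ∨ IsPOmegaMinus S ∨ IsExceptionalLieType S)
    {p : ℕ} [hp : Fact p.Prime] (hp2 : p ≠ 2) (hd : p ^ 2 ∣ Nat.card S) :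
    H33.IM (p ^ 2) S ∨ H696.PSq.EvenC p S := by
  rcases h with h | h | h | h | h | h | h
  · exact Or.inl (H219.PSq.Psl.sq_psl h hs hp2 hd)
  · exact Or.inl (H987.PSq.sq_psp h hs hp2 hd)
  · exact hpsu h hs hp2 hd
  · exact Or.inl (H674.Sq.sq_oodd h hs hp2 hd)
  · exact Or.inl (H734.PSq.sq_plus h hs hp2 hd)
  · exact Or.inl (H674.Sq.sq_ominus h hs hp2 hd)
  · rcases h with h | h | h | h | h | h | h | h | h | h | h
    · exact Or.inl (H811.PSq.sq_G2 h hs hp2 hd)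
    · exact Or.inl (H730.Sq.sq_f4 h hs hp2 hd)
    · exact Or.inl (H690.Sq.sq_e6 h hs hp2 hd)
    · exact Or.inl (H582.Sq.sq_E7 h hs hp2 hd)
    · exact Or.inl (H582.Sq.sq_E8 h hs hp2 hd)
    · exact Or.inl (H730.Sq.sq_2e6 h hs hp2 hd)
    · exact Or.inl (H501.PSq.sq_tD4 h hs hp2 hd)
    · exact Or.inl (H628.Sq.Sz.sq_suzuki h hs hp2 hd)
    · exact Or.inl (H628.Sq.Ree.sq_ree h hs hp2 hd)
    · exact h2f4 h hs hp2 hd
    · exact Or.inl (H628.Sq.Tits.sq_tits h hs hp2 hd)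

end Cfsg.Agent.H690.SqLie
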